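import Groth.Agent.HopfDomain.Basic
import Groth.Agent.HopfPoint.Basic
import Groth.Agent.CommMult.Conil
import Groth.Agent.S7975
import Groth.Prelude.Def_ComodSub
import Mathlib.LinearAlgebra.Charpoly.ToMatrix
import Mathlib.RingTheory.KrullDimension.Field

/-!
# A connected one-dimensional affine algebraic group is commutative
-/

set_option autoImplicit false
set_option linter.unusedSectionVars false
set_option backward.isDefEq.respectTransparency false

universe u v w

open TensorProduct Coalgebra WithConv
open Groth.Agent.Comod Groth.Agent.UnipConil Groth.Agent.HopfDomain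
open scoped Groth.Agent.Comod

noncomputable section

namespace Groth.Agent.OneDim

variable {k : Type u} [Field k] {A : Type v} [CommRing A] [HopfAlgebra k A]

/-- Evaluation at a point, as a map of convolution monoids. -/
def atPoint (x : WithConv (A →ₐ[k] k)) : WithConv (A →ₐ[k] A) →* WithConv (A →ₐ[k] k) where
  toFun f := toConv (x.ofConv.comp f.ofConv)
  map_one' := WithConv.ext <| AlgHom.ext fun a => by simp [AlgHom.convOne_def, Algebra.ofId_apply]
  map_mul' f g := WithConv.ext <| AlgHom.comp_convMul_distrib _ _ _

theorem atPoint_id (x : WithConv (A →ₐ[k] k)) : atPoint x (toConv (AlgHom.id k A)) = x :=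
  WithConv.ext (AlgHom.comp_id _)

theorem atPoint_cst (x g : WithConv (A →ₐ[k] k)) : atPoint x (cst g) = g :=
  WithConv.ext <| AlgHom.ext fun a => by simp [atPoint, Algebra.ofId_apply]

/-- The orbit map of a point under conjugation. -/
def conj (g : WithConv (A →ₐ[k] k)) : A →ₐ[k] A :=
  (toConv (AlgHom.id k A) * cst g * (toConv (AlgHom.id k A))⁻¹).ofConv

theorem comp_conj (x g : WithConv (A →ₐ[k] k)) : toConv (x.ofConv.comp (conj g)) = x * g * x⁻¹ := by
  show atPoint x (toConv (AlgHom.id k A) * cst g * (toConv (AlgHom.id k A))⁻¹) = _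
  rw [map_mul, map_mul, map_inv, atPoint_id, atPoint_cst]

theorem conj_apply (x g : WithConv (A →ₐ[k] k)) (a : A) : x.ofConv (conj g a) = (x * g * x⁻¹).ofConv a := by
  rw [← comp_conj]
  rfl

variable [IsAlgClosed k] [_root_.IsReduced A]

theorem eq_zero_of_points {a : A} (h : ∀ x : WithConv (A →ₐ[k] k), x.ofConv a = 0) : a = 0 := by
  by_contra ha
  obtain ⟨G, hG⟩ := Groth.Agent.HopfPoint.exists_point_ne_zero (k := k) (a := a) fun hn => ha hn.eq_zero
  exact hG (h (toConv G))

theorem eq_of_points {a b : A} (h : ∀ x : WithConv (A →ₐ[k] k), x.ofConv a = x.ofConv b) : a = b :=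
  sub_eq_zero.1 <| eq_zero_of_points (k := k) fun x => by rw [map_sub, h, sub_self]

theorem isCocomm_of_points (h : ∀ x y : WithConv (A →ₐ[k] k), x * y = y * x) : IsCocomm k A where
  comm_comp_comul := by
    refine LinearMap.ext fun a => ?_
    show TensorProduct.comm k A A (comul (R := k) a) = comul (R := k) a
    have hlr : ∀ x : WithConv (A →ₐ[k] k),
        cL x.ofConv.toLinearMap (comul (R := k) a) = cR x.ofConv.toLinearMap (comul (R := k) a) := by
      intro x
      refine eq_of_points (k := k) fun y => ?_
      have h1 : ∀ t : A ⊗[k] A, y.ofConv (cL x.ofConv.toLinearMap t) =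
          LinearMap.mul' k k (TensorProduct.map x.ofConv.toLinearMap y.ofConv.toLinearMap t) := by
        intro t
        induction t using TensorProduct.induction_on with
        | zero => simp
        | tmul p q => simp
        | add p q hp hq => simp [hp, hq]
      have h2 : ∀ t : A ⊗[k] A, y.ofConv (cR x.ofConv.toLinearMap t) =
          LinearMap.mul' k k (TensorProduct.map y.ofConv.toLinearMap x.ofConv.toLinearMap t) := by
        intro t
        induction t using TensorProduct.induction_on with
        | zero => simp
        | tmul p q => simp [mul_comm]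
        | add p q hp hq => simp [hp, hq]
      rw [h1, h2]
      have hm : ∀ z w : WithConv (A →ₐ[k] k), LinearMap.mul' k k
          (TensorProduct.map z.ofConv.toLinearMap w.ofConv.toLinearMap (comul (R := k) a)) = (z * w).ofConv a := by
        intro z w
        simp only [AlgHom.convMul_def, AlgHom.comp_apply, WithConv.ofConv_toConv]
        rw [show Bialgebra.comulAlgHom k A a = comul (R := k) a from rfl]
        generalize comul (R := k) a = t
        induction t using TensorProduct.induction_on with
        | zero => simp
        | tmul p q => simp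
        | add p q hp hq => simp [hp, hq]
      rw [hm, hm, h]
    refine tensor_eq_of_cR fun φ => eq_of_points (k := k) fun x => ?_
    have e : ∀ t : A ⊗[k] A, cR φ (TensorProduct.comm k A A t) = cL φ t := fun t => by
      induction t using TensorProduct.induction_on with
      | zero => simp
      | tmul p q => simp
      | add p q hp hq => simp [hp, hq]
    have hx : ∀ t : A ⊗[k] A, x.ofConv (cR φ t) = φ (cL x.ofConv.toLinearMap t) := fun t =>
      (cR_cL φ x.ofConv.toLinearMap t).symm
    have hx' : x.ofConv (cL φ (comul (R := k) a)) = φ (cR x.ofConv.toLinearMap (comul (R := k) a)) :=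
      cR_cL x.ofConv.toLinearMap φ _
    rw [e, hx', hx, hlr]

section OneDim

variable [Algebra.FiniteType k A]

theorem conj_injective_or (hconn : ∀ e : A, IsIdempotentElem e → e = 0 ∨ e = 1) (hdim : ringKrullDim A ≤ 1)
    (g : WithConv (A →ₐ[k] k)) : Function.Injective (conj g) ∨ ∀ x, x * g * x⁻¹ = g := by
  haveI := isDomain (k := k) hconn
  haveI : Ring.KrullDimLE 1 A := Ring.krullDimLE_iff.2 hdim
  by_cases hP : RingHom.ker (conj g).toRingHom = ⊥
  · exact Or.inl ((RingHom.injective_iff_ker_eq_bot _).2 hP)
  refine Or.inr fun x => WithConv.ext (AlgHom.ext fun a => ?_)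
  have hmax : (RingHom.ker (conj g).toRingHom).IsMaximal :=
    Ideal.IsPrime.isMaximal_of_ne_bot (RingHom.ker_isPrime _) hP
  obtain ⟨y, hy⟩ := HopfDomain.exists_point (k := k) (RingHom.ker (conj g).toRingHom)
  have hval : ∀ b, conj g b = algebraMap k A (y.ofConv b) := by
    intro b
    have hmem : b - algebraMap k A (y.ofConv b) ∈ RingHom.ker y.ofConv := by
      rw [RingHom.mem_ker, map_sub, AlgHom.commutes]
      simp
    rw [hy] at hmem
    have := RingHom.mem_ker.1 hmem
    rw [map_sub, sub_eq_zero] at this
    rw [show conj g b = (conj g).toRingHom b from rfl, this]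
    exact (conj g).commutes _
  have h1 := conj_apply (1 : WithConv (A →ₐ[k] k)) g a
  rw [one_mul, inv_one, mul_one, hval, AlgHom.commutes] at h1
  rw [← conj_apply, hval, AlgHom.commutes, h1]

/-- The matrix of a point acting on a comodule. -/
theorem charpoly_const {g : WithConv (A →ₐ[k] k)} (hg : Function.Injective (conj g))
    (V : Type w) [AddCommGroup V] [Module k V] [HopfRep.Comod k A V] [Module.Finite k V]
    (x : WithConv (A →ₐ[k] k)) : IsNilpotent (HopfRep.Comod.act k A V x.ofConv - LinearMap.id) := by
  classical
  let b := Module.finBasis k V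
  let M : Matrix (Fin (Module.finrank k V)) (Fin (Module.finrank k V)) A :=
    Matrix.of fun i j => cL (b.coord i) (HopfRep.Comod.coact (k := k) (A := A) (b j))
  let R : WithConv (A →ₐ[k] k) →* Module.End k V :=
    { toFun := fun g => dact k A V (toConv g.ofConv.toLinearMap)
      map_one' := by
        rw [show toConv (AlgHom.toLinearMap (1 : WithConv (A →ₐ[k] k)).ofConv) = 1 from ?_, map_one]
        ext a; simp [LinearMap.convOne_def, AlgHom.convOne_def, Algebra.algebraMap_eq_smul_one]
      map_mul' := fun g g' => by
        rw [← map_mul]; congr 1 }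
  have hact : ∀ y : WithConv (A →ₐ[k] k), R y = HopfRep.Comod.act k A V y.ofConv := fun y => rfl
  have hmat : ∀ y : WithConv (A →ₐ[k] k), M.map y.ofConv.toRingHom = LinearMap.toMatrix b b (R y) := by
    intro y
    ext i j
    rw [Matrix.map_apply, LinearMap.toMatrix_apply]
    exact cR_cL y.ofConv.toLinearMap (b.coord i) _
  have hcp : ∀ y : WithConv (A →ₐ[k] k),
      M.charpoly.map y.ofConv.toRingHom = (R y).charpoly := by
    intro y
    rw [← Matrix.charpoly_map, hmat, LinearMap.charpoly_toMatrix]
  have hconjR : ∀ y : WithConv (A →ₐ[k] k), (R (y * g * y⁻¹)).charpoly = (R g).charpoly := by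
    intro y
    rw [← LinearMap.charpoly_toMatrix _ b, ← LinearMap.charpoly_toMatrix (R g) b, map_mul,
      LinearMap.toMatrix_mul, Matrix.charpoly_mul_comm, ← LinearMap.toMatrix_mul, ← map_mul, inv_mul_cancel_left]
  have hconst : ∀ m, M.charpoly.coeff m = algebraMap k A (g.ofConv (M.charpoly.coeff m)) := by
    intro m
    refine hg (eq_of_points (k := k) fun y => ?_)
    rw [(conj g).commutes, AlgHom.commutes, conj_apply]
    have := congrArg (Polynomial.coeff · m) ((hcp (y * g * y⁻¹)).trans ((hconjR y).trans (hcp g).symm))
    simpa [Polynomial.coeff_map] using this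
  have hchar : (R x).charpoly = (1 : Module.End k V).charpoly := by
    rw [← map_one R, ← hcp, ← hcp]
    ext m
    rw [Polynomial.coeff_map, Polynomial.coeff_map, hconst m]
    exact (x.ofConv.commutes _).trans ((1 : WithConv (A →ₐ[k] k)).ofConv.commutes _).symm
  rw [LinearMap.charpoly_one] at hchar
  have h0 := LinearMap.aeval_self_charpoly (R x)
  rw [hchar, map_pow, map_sub, Polynomial.aeval_X, map_one] at h0
  exact ⟨_, h0⟩

theorem isUnipotent_of_conj_injective {g : WithConv (A →ₐ[k] k)} (hg : Function.Injective (conj g)) :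
    HopfRep.IsUnipotent k A := by
  intro V i1 i2 i3 hfin hnt
  let ρ : Representation k (WithConv (A →ₐ[k] k)) V :=
    { toFun := fun g => dact k A V (toConv g.ofConv.toLinearMap)
      map_one' := by
        rw [show toConv (AlgHom.toLinearMap (1 : WithConv (A →ₐ[k] k)).ofConv) = 1 from ?_, map_one]
        ext a; simp [LinearMap.convOne_def, AlgHom.convOne_def, Algebra.algebraMap_eq_smul_one]
      map_mul' := fun g g' => by
        rw [← map_mul]; congr 1 }
  obtain ⟨v, hv, hvfix⟩ := Groth.Agent.S7975.result k (WithConv (A →ₐ[k] k)) V ρ fun x => by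
    rw [Module.End.one_eq_id]; exact charpoly_const hg V x
  refine (Submodule.ne_bot_iff _).2 ⟨v, ?_, hv⟩
  refine tensor_eq_of_cL fun φ => eq_of_points (k := k) fun x => ?_
  have h1 : x.ofConv (cL φ (HopfRep.Comod.coact (k := k) (A := A) v)) =
      φ (cR x.ofConv.toLinearMap (HopfRep.Comod.coact (k := k) (A := A) v)) := cR_cL x.ofConv.toLinearMap φ _
  have h2 : x.ofConv (cL φ (v ⊗ₜ[k] (1 : A))) = φ (cR x.ofConv.toLinearMap (v ⊗ₜ[k] (1 : A))) := cR_cL x.ofConv.toLinearMap φ _
  show x.ofConv (cL φ (HopfRep.Comod.coact (k := k) (A := A) v)) = x.ofConv (cL φ (v ⊗ₜ[k] (1 : A)))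
  rw [h1, h2]
  congr 1
  rw [cR_tmul, AlgHom.toLinearMap_apply, map_one, one_smul]
  exact hvfix x

theorem mul_apply_of_mem_filt_one {a : A} (ha : a ∈ filt k A 1) (x y : WithConv (A →ₐ[k] k)) :
    (x * y).ofConv a = x.ofConv a + y.ofConv a - counit (R := k) a := by
  have hL : cL x.ofConv.toLinearMap (comul (R := k) a) = (x.ofConv a - counit (R := k) a) • (1 : A) + a := by
    rw [CommMult.cL_comul_eq, AlgHom.toLinearMap_apply, map_one, one_smul]
    congr 1
    obtain ⟨c, hc⟩ := Submodule.mem_span_singleton.1
      (cL_mem (f := x.ofConv.toLinearMap - counit (R := k) (A := A)) ha (by simp))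
    have e : counit (R := k) (cR (counit (R := k) (A := A)) (comul (R := k) a)) = counit (R := k) a := by
      congr 1
      show TensorProduct.rid k A ((counit (R := k) (A := A)).lTensor A (comul (R := k) a)) = a
      rw [Coalgebra.lTensor_counit_comul]; simp
    have h1 := congrArg (counit (R := k) (A := A)) hc
    have e2 : cR (counit (R := k) (A := A)) (comul (R := k) a) = a := by
      show TensorProduct.rid k A ((counit (R := k) (A := A)).lTensor A (comul (R := k) a)) = a
      rw [Coalgebra.lTensor_counit_comul]; simp
    rw [map_smul, Bialgebra.counit_one, smul_eq_mul, mul_one, cR_cL, e2] at h1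
    rw [← hc, h1]
    · simp
    · exact one_smul _ _
  have hm : (x * y).ofConv a = y.ofConv (cL x.ofConv.toLinearMap (comul (R := k) a)) := by
    simp only [AlgHom.convMul_def, AlgHom.comp_apply, WithConv.ofConv_toConv]
    rw [show Bialgebra.comulAlgHom k A a = comul (R := k) a from rfl]
    generalize comul (R := k) a = t
    induction t using TensorProduct.induction_on with
    | zero => simp
    | tmul p q => simp
    | add p q hp hq => simp [hp, hq]
  rw [hm, hL, map_add, map_smul, map_one, smul_eq_mul]
  ring

/-- A connected one-dimensional group is commutative. -/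
theorem isCocomm (hconn : ∀ e : A, IsIdempotentElem e → e = 0 ∨ e = 1) (hdim : ringKrullDim A = 1) :
    IsCocomm k A := by
  by_cases hall : ∀ g x : WithConv (A →ₐ[k] k), x * g * x⁻¹ = g
  · refine isCocomm_of_points fun x y => ?_
    conv_rhs => rw [← hall y x]
    group
  push Not at hall
  obtain ⟨g, x₀, hx₀⟩ := hall
  exfalso
  have hg : Function.Injective (conj g) :=
    (conj_injective_or hconn hdim.le g).resolve_right fun h => hx₀ (h x₀)
  have hcon : IsConil k A := isConil_of_unipotent (isUnipotent_of_conj_injective hg)
  have h1 : ∀ a ∈ filt k A 1, a ∈ filt k A 0 := by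
    intro a ha
    have hc : conj g a = conj g (algebraMap k A (g.ofConv a)) := by
      refine eq_of_points (k := k) fun x => ?_
      rw [conj_apply, (conj g).commutes, AlgHom.commutes, mul_apply_of_mem_filt_one ha,
        mul_apply_of_mem_filt_one ha]
      have hinv := mul_apply_of_mem_filt_one ha x x⁻¹
      rw [mul_inv_cancel, show (1 : WithConv (A →ₐ[k] k)).ofConv a = counit (R := k) a by
        simp [AlgHom.convOne_def]] at hinv
      simp only [Algebra.algebraMap_self, RingHom.id_apply]
      linear_combination -hinv
    exact Submodule.mem_span_singleton.2 ⟨g.ofConv a, by rw [← Algebra.algebraMap_eq_smul_one, ← hg hc]⟩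
  have hn : ∀ n, ∀ a ∈ filt k A n, a ∈ filt k A 0 := by
    intro n
    induction n with
    | zero => exact fun a ha => ha
    | succ n ih => exact fun a ha => h1 a (CommMult.mem_filt_succ_of_cL fun f hf => ih _ (cL_mem ha hf))
  haveI : Nontrivial A := (Bialgebra.counitAlgHom k A).toRingHom.domain_nontrivial
  have hbij : Function.Bijective (algebraMap k A) := by
    refine ⟨(algebraMap k A).injective, fun a => ?_⟩
    obtain ⟨n, hna⟩ := hcon a
    obtain ⟨c, hc⟩ := Submodule.mem_span_singleton.1 (hn n a hna)
    exact ⟨c, by rw [Algebra.algebraMap_eq_smul_one, hc]⟩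
  rw [← ringKrullDim_eq_of_ringEquiv (RingEquiv.ofBijective _ hbij), ringKrullDim_eq_zero_of_field] at hdim
  exact zero_ne_one hdim

end OneDim

end Groth.Agent.OneDim
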