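import Mathlib
import Groth.Agent.OneDim.Comm

/-!
# Commutativity of connected one-dimensional groups over any field
-/

set_option autoImplicit false
set_option linter.style.haveILetI false
set_option backward.isDefEq.respectTransparency false
set_option synthInstance.maxHeartbeats 400000
set_option maxHeartbeats 1000000

universe u v

open TensorProduct Coalgebra
open Groth.Agent.Comod

noncomputable section

namespace Groth.Agent.OneDim

/-- Connectedness with a rational point survives finite extensions. -/
theorem idem_trivial_finite {k : Type u} {F : Type v} [Field k] [CommRing F] [Algebra k F] (ε : F →ₐ[k] k)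
    (hF : ∀ e : F, IsIdempotentElem e → e = 0 ∨ e = 1) (L : Type u) [Field L] [Algebra k L] [Module.Finite k L]
    (e : L ⊗[k] F) (he : IsIdempotentElem e) : e = 0 ∨ e = 1 := by
  classical
  let b := Module.finBasis k L
  let bF := Algebra.TensorProduct.basis F b
  let π : F ⊗[k] L →ₐ[k] L :=
    (Algebra.TensorProduct.lid k L).toAlgHom.comp (Algebra.TensorProduct.map ε (AlgHom.id k L))
  haveI : Module.Free F (F ⊗[k] L) := Module.Free.of_basis bF
  haveI : Module.Finite F (F ⊗[k] L) := Module.Finite.of_basis bF
  have key : ∀ y : F ⊗[k] L, IsIdempotentElem y → π y = 1 → y = 1 := by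
    intro y hy hπ
    have hd : IsIdempotentElem (Algebra.norm F y) := by rw [IsIdempotentElem, ← map_mul, hy.eq]
    have hε : ε (Algebra.norm F y) = 1 := by
      rw [Algebra.norm_eq_matrix_det bF]
      refine Eq.trans (RingHom.map_det (ε : F →+* k) _) ?_
      have hM : (ε : F →+* k).mapMatrix (Algebra.leftMulMatrix bF y) = Algebra.leftMulMatrix b (π y) := by
        ext i j
        rw [RingHom.mapMatrix_apply, Matrix.map_apply, Algebra.leftMulMatrix_eq_repr_mul,
          Algebra.leftMulMatrix_eq_repr_mul]
        have hr : ∀ z : F ⊗[k] L, ε (bF.repr z i) = b.repr (π z) i := by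
          intro z
          induction z using TensorProduct.induction_on with
          | zero => simp
          | tmul f l => simp [bF, π, mul_comm]
          | add u v hu hv => simp only [map_add, Finsupp.add_apply, hu, hv]
        show ε (bF.repr (y * bF j) i) = _
        rw [hr, map_mul]
        congr 3
        simp [bF, π]
      rw [hM, hπ, map_one, Matrix.det_one]
    rcases hF _ hd with h | h
    · rw [h, map_zero] at hε
      exact absurd hε zero_ne_one
    · have h1 : IsUnit (Algebra.lmul F (F ⊗[k] L) y) := by
        rw [LinearMap.isUnit_iff_isUnit_det, ← Algebra.norm_apply, h]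
        exact isUnit_one
      obtain ⟨z, hz⟩ := ((Module.End.isUnit_iff _).mp h1).2 1
      have hu : IsUnit y := IsUnit.of_mul_eq_one z hz
      exact hu.mul_left_cancel (hy.eq.trans (mul_one y).symm)
  let c := Algebra.TensorProduct.comm k L F
  have hc : IsIdempotentElem (c e) := by rw [IsIdempotentElem, ← map_mul, he.eq]
  rcases IsIdempotentElem.iff_eq_zero_or_one.mp (show IsIdempotentElem (π (c e)) by
      rw [IsIdempotentElem, ← map_mul, hc.eq]) with h | h
  · refine Or.inl (c.injective ?_)
    have := key (1 - c e) hc.one_sub (by rw [map_sub, map_one, h, sub_zero])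
    rw [map_zero]
    exact sub_eq_self.mp this
  · exact Or.inr (c.injective ((key _ hc h).trans (map_one c).symm))

/-- Idempotents of the base change to an algebraic closure are trivial. -/
theorem idem_trivial_algClosure {k : Type u} {F : Type v} [Field k] [CommRing F] [Algebra k F]
    (h : ∀ (L : Type u) [Field L] [Algebra k L], Module.Finite k L →
      ∀ e : L ⊗[k] F, IsIdempotentElem e → e = 0 ∨ e = 1)
    (e : AlgebraicClosure k ⊗[k] F) (he : IsIdempotentElem e) : e = 0 ∨ e = 1 := by
  let ε := Algebra.TensorProduct.comm k (AlgebraicClosure k) F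
  obtain ⟨D, hD, z, hz⟩ := exists_fg_and_mem_baseChange (ε e)
  haveI : Algebra.FiniteType k D := (Subalgebra.fg_iff_finiteType D).1 hD
  haveI : Algebra.IsIntegral k D := Algebra.IsIntegral.of_injective D.val Subtype.val_injective
  haveI : Module.Finite k D := Algebra.IsIntegral.finite
  letI : Field D := (isField_of_isIntegral_of_isField' (R := k) (S := D) (Field.toIsField k)).toField
  let m := Algebra.TensorProduct.map (AlgHom.id F F) D.val
  have hm : Function.Injective m :=
    Module.Flat.lTensor_preserves_injective_linearMap _ Subtype.val_injective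
  let δ := Algebra.TensorProduct.comm k F ↥D
  replace hz : m z = ε e := hz
  have hz1 : z * z = z := hm (by rw [map_mul, hz, ← map_mul, he.eq])
  rcases h ↥D inferInstance (δ z) (by rw [IsIdempotentElem, ← map_mul, hz1]) with h' | h'
  · rw [δ.injective (h'.trans (map_zero δ).symm), map_zero] at hz
    exact Or.inl (ε.injective (hz.symm.trans (map_zero ε).symm))
  · rw [δ.injective (h'.trans (map_one δ).symm), map_one] at hz
    exact Or.inr (ε.injective (hz.symm.trans (map_one ε).symm))

/-- A finite injective extension keeps the dimension. -/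
theorem ringKrullDim_eq_of_injective_integral {A : Type u} {B : Type v} [CommRing A] [CommRing B] [Algebra A B]
    [Algebra.IsIntegral A B] (h : Function.Injective (algebraMap A B)) :
    ringKrullDim A = ringKrullDim B := by
  have : FaithfulSMul A B := (faithfulSMul_iff_algebraMap_injective A B).mpr h
  refine le_antisymm (iSup_le fun l => ?_)
    (Order.krullDim_le_of_strictMono (PrimeSpectrum.comap (algebraMap A B))
      fun a b hab => Ideal.IsIntegral.comap_lt_comap (R := A) hab)
  have key : ∀ (n : ℕ) (l : LTSeries (PrimeSpectrum A)), l.length = n →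
      ∃ m : LTSeries (PrimeSpectrum B), m.length = n ∧
        PrimeSpectrum.comap (algebraMap A B) m.last = l.last := by
    intro n
    induction n with
    | zero =>
      intro l hl
      obtain ⟨Q, -, hQ, hQl⟩ := Ideal.exists_ideal_over_prime_of_isIntegral l.last.asIdeal (⊥ : Ideal B)
        (by rw [← RingHom.ker_eq_comap_bot, (RingHom.injective_iff_ker_eq_bot _).mp h]; exact bot_le)
      exact ⟨RelSeries.singleton _ ⟨Q, hQ⟩, rfl, PrimeSpectrum.ext (by simpa using hQl)⟩
    | succ n ih =>
      intro l hl
      obtain ⟨m, hm, hml⟩ := ih l.eraseLast (by simp [hl])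
      have hlt : l.eraseLast.last < l.last := l.eraseLast_last_rel_last (by omega)
      obtain ⟨Q, hQle, hQ, hQl⟩ := Ideal.exists_ideal_over_prime_of_isIntegral l.last.asIdeal
        m.last.asIdeal (by
          rw [show m.last.asIdeal.comap (algebraMap A B) = l.eraseLast.last.asIdeal from
            congrArg PrimeSpectrum.asIdeal hml]
          exact hlt.le)
      refine ⟨m.snoc ⟨Q, hQ⟩ (lt_of_le_of_ne (show m.last ≤ (⟨Q, hQ⟩ : PrimeSpectrum B) from hQle)
        fun e => ?_), by simp [hm], PrimeSpectrum.ext (by simpa using hQl)⟩
      apply hlt.ne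
      rw [← hml, e]
      exact PrimeSpectrum.ext hQl
  obtain ⟨m, hm, -⟩ := key l.length l rfl
  rw [← hm]
  exact le_iSup (fun m : LTSeries (PrimeSpectrum B) => (m.length : WithBot ℕ∞)) m


theorem isCocomm_of_field (k : Type u) [Field k] (A : Type v) [CommRing A] [HopfAlgebra k A]
    [Algebra.FiniteType k A] [Algebra.IsGeometricallyReduced k A]
    (hconn : ∀ e : A, IsIdempotentElem e → e = 0 ∨ e = 1) (hdim : ringKrullDim A = 1) :
    Coalgebra.IsCocomm k A := by
  let K := AlgebraicClosure k
  have hconn' : ∀ e : K ⊗[k] A, IsIdempotentElem e → e = 0 ∨ e = 1 :=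
    idem_trivial_algClosure fun L _ _ _ z hz => idem_trivial_finite (Bialgebra.counitAlgHom k A) hconn L z hz
  letI : Algebra A (K ⊗[k] A) := Algebra.TensorProduct.rightAlgebra
  haveI : Algebra.IsIntegral A (K ⊗[k] A) := ⟨fun z => by
    induction z using TensorProduct.induction_on with
    | zero => exact isIntegral_zero
    | tmul c a =>
      rw [show c ⊗ₜ[k] a = (Algebra.TensorProduct.includeLeft : K →ₐ[k] K ⊗[k] A) c * algebraMap A (K ⊗[k] A) a by
        simp [Algebra.TensorProduct.right_algebraMap_apply]]
      refine IsIntegral.mul ?_ isIntegral_algebraMap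
      have h := (Algebra.IsIntegral.isIntegral (R := k) c).map (Algebra.TensorProduct.includeLeft : K →ₐ[k] K ⊗[k] A)
      exact h.tower_top
    | add x y hx hy => exact hx.add hy⟩
  have hinj : Function.Injective (algebraMap A (K ⊗[k] A)) :=
    Algebra.TensorProduct.includeRight_injective (algebraMap k K).injective
  have hdim' : ringKrullDim (K ⊗[k] A) = 1 := by rw [← ringKrullDim_eq_of_injective_integral hinj, hdim]
  haveI : Coalgebra.IsCocomm K (K ⊗[k] A) := isCocomm hconn' hdim'
  let j : A ⊗[k] A →ₗ[k] (K ⊗[k] A) ⊗[K] (K ⊗[k] A) :=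
    ((TensorProduct.AlgebraTensorModule.distribBaseChange k K A A).toLinearMap.restrictScalars k) ∘ₗ
      TensorProduct.mk k K (A ⊗[k] A) 1
  have hj : Function.Injective j := (TensorProduct.AlgebraTensorModule.distribBaseChange k K A A).injective.comp
    (Algebra.TensorProduct.includeRight_injective (A := K) (B := A ⊗[k] A) (algebraMap k K).injective)
  have hjt : ∀ a b : A, j (a ⊗ₜ b) = ((1 : K) ⊗ₜ a) ⊗ₜ[K] ((1 : K) ⊗ₜ b) := fun a b => by
    simp [j, TensorProduct.AlgebraTensorModule.distribBaseChange_tmul]
  refine ⟨LinearMap.ext fun a => hj ?_⟩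
  show j (TensorProduct.comm k A A (comul (R := k) a)) = j (comul (R := k) a)
  have h := LinearMap.congr_fun (Coalgebra.IsCocomm.comm_comp_comul (R := K) (A := K ⊗[k] A)) ((1 : K) ⊗ₜ[k] a)
  have hc : j (comul (R := k) a) = comul (R := K) ((1 : K) ⊗ₜ[k] a) := by
    rw [TensorProduct.comul_tmul, CommSemiring.comul_apply]
    induction comul (R := k) a using TensorProduct.induction_on with
    | zero => simp
    | tmul x y => simp [hjt]
    | add x y hx hy => simp only [TensorProduct.tmul_add, map_add, hx, hy]
  have hcomm : ∀ t, j (TensorProduct.comm k A A t) = TensorProduct.comm K (K ⊗[k] A) (K ⊗[k] A) (j t) := fun t => by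
    induction t using TensorProduct.induction_on with
    | zero => simp
    | tmul x y => simp [hjt]
    | add x y hx hy => simp only [map_add, hx, hy]
  rw [hcomm, hc]
  exact h

end Groth.Agent.OneDim
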